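import Mathlib

/-!
# Endomorphisms with bounded eigenvalues and dimension
-/

set_option autoImplicit false
set_option linter.style.haveILetI false

namespace Groth.Agent.SpSeq17

universe u v w

variable {V : Type u} [AddCommGroup V] [Module ℂ V] {W : Type v} [AddCommGroup W] [Module ℂ W]

/-- A finite-dimensional space of dimension at most `D` with an endomorphism whose eigenvalues are at most `A`. -/
structure Bdd (f : Module.End ℂ V) (A : ℝ) (D : ℕ) : Prop where
  finite : FiniteDimensional ℂ V
  eig : ∀ μ : ℂ, f.HasEigenvalue μ → ‖μ‖ ≤ A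
  dim : Module.finrank ℂ V ≤ D

namespace Bdd

variable {f : Module.End ℂ V} {g : Module.End ℂ W} {A : ℝ} {D : ℕ}

theorem norm_trace_le (h : Bdd f A D) (hA : 0 ≤ A) : ‖LinearMap.trace ℂ V f‖ ≤ A * D := by
  haveI := h.finite
  have hs : f.charpoly.Splits := IsAlgClosed.splits _
  rw [Module.End.trace_eq_sum_roots_charpoly_of_splits hs]
  calc ‖f.charpoly.roots.sum‖ ≤ (f.charpoly.roots.map fun μ => ‖μ‖).sum := norm_multiset_sum_le _
    _ ≤ (f.charpoly.roots.map fun _ => A).sum := by
        refine Multiset.sum_map_le_sum_map _ _ fun μ hμ => h.eig μ ?_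
        rw [Module.End.hasEigenvalue_iff_isRoot_charpoly]
        exact (Polynomial.mem_roots'.1 hμ).2
    _ = Multiset.card f.charpoly.roots * A := by simp
    _ ≤ D * A := by
        refine mul_le_mul_of_nonneg_right (Nat.cast_le.2 ?_) hA
        exact (Polynomial.card_roots' _).trans ((LinearMap.charpoly_natDegree f).le.trans h.dim)
    _ = A * D := mul_comm _ _

theorem of_injective (h : Bdd g A D) (i : V →ₗ[ℂ] W) (hi : Function.Injective i)
    (hc : g ∘ₗ i = i ∘ₗ f) : Bdd f A D := by
  haveI := h.finite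
  haveI : FiniteDimensional ℂ V := Module.Finite.of_injective i hi
  refine ⟨inferInstance, fun μ hμ => h.eig μ ?_, (LinearMap.finrank_le_finrank_of_injective hi).trans h.dim⟩
  obtain ⟨x, hx⟩ := hμ.exists_hasEigenvector
  refine Module.End.hasEigenvalue_of_hasEigenvector (x := i x) ⟨?_, fun h0 => hx.2 (hi (h0.trans (map_zero i).symm))⟩
  rw [Module.End.mem_eigenspace_iff]
  rw [show g (i x) = i (f x) from LinearMap.congr_fun hc x, hx.apply_eq_smul, map_smul]

theorem of_surjective (h : Bdd g A D) (p : W →ₗ[ℂ] V) (hp : Function.Surjective p)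
    (hc : p ∘ₗ g = f ∘ₗ p) : Bdd f A D := by
  haveI := h.finite
  haveI : FiniteDimensional ℂ V := Module.Finite.of_surjective p hp
  refine ⟨inferInstance, fun μ hμ => h.eig μ ?_, (LinearMap.finrank_le_finrank_of_surjective hp).trans h.dim⟩
  rw [Module.End.hasEigenvalue_iff_isRoot] at hμ ⊢
  refine Polynomial.IsRoot.dvd hμ (minpoly.dvd ℂ f ?_)
  ext y
  obtain ⟨x, rfl⟩ := hp y
  have key : ∀ (P : Polynomial ℂ) (x : W), Polynomial.aeval f P (p x) = p (Polynomial.aeval g P x) := by
    intro P
    induction P using Polynomial.induction_on' with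
    | add P Q hP hQ => intro x; simp [hP, hQ]
    | monomial n a =>
      intro x
      simp only [Polynomial.aeval_monomial, Module.End.mul_apply, Module.algebraMap_end_apply, map_smul]
      congr 1
      induction n with
      | zero => simp
      | succ n ih =>
        rw [pow_succ', pow_succ', Module.End.mul_apply, Module.End.mul_apply, ih]
        exact (LinearMap.congr_fun hc _).symm
  rw [key, minpoly.aeval, LinearMap.zero_apply, map_zero, LinearMap.zero_apply]

end Bdd

/-- Summability over pairs of the bounds `(a q * c p) * (b q * d p)` supported in `q ≤ N`. -/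
theorem summable_of_bound {R : Type w} [SeminormedAddCommGroup R] (N : ℕ) (a c : ℕ → ℝ) (b d : ℕ → ℕ)
    (hsum : Summable fun p : ℕ => c p * (d p : ℝ)) (t : ℕ × ℕ → R)
    (h0 : ∀ p q, N < q → ‖t (p, q)‖ = 0) (hle : ∀ p q, ‖t (p, q)‖ ≤ (a q * c p) * (b q * d p : ℕ)) :
    Summable fun pq : ℕ × ℕ => ‖t pq‖ := by
  let G : ℕ × ℕ → ℝ := fun pq => if pq.2 ≤ N then (a pq.2 * b pq.2) * (c pq.1 * d pq.1) else 0
  have hG : ∀ pq, ‖t pq‖ ≤ G pq := fun pq => by
    simp only [G]
    split_ifs with h
    · refine (hle pq.1 pq.2).trans (le_of_eq ?_)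
      push_cast
      ring
    · exact (h0 pq.1 pq.2 (by omega)).le
  refine Summable.of_nonneg_of_le (fun _ => norm_nonneg _) hG ?_
  have hGn : 0 ≤ G := fun pq => (norm_nonneg _).trans (hG pq)
  rw [← (Equiv.prodComm ℕ ℕ).summable_iff, summable_prod_of_nonneg (f := G ∘ ⇑(Equiv.prodComm ℕ ℕ)) fun pq => hGn (Prod.swap pq)]
  refine ⟨fun q => ?_, summable_of_ne_finset_zero (s := Finset.range (N + 1)) fun q hq => ?_⟩
  · simp only [G, Function.comp_apply, Equiv.prodComm_apply, Prod.swap_prod_mk]
    split_ifs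
    · exact hsum.mul_left _
    · exact summable_zero
  · have : ¬ q ≤ N := by simpa using hq
    simp [G, this]

end Groth.Agent.SpSeq17
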