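import Groth.Agent.SpSeq17.PageTrace

/-!
# Trace on the abutment of a bounded spectral sequence
-/

set_option autoImplicit false
set_option backward.isDefEq.respectTransparency false
set_option linter.style.haveILetI false

universe u

open CategoryTheory CategoryTheory.Limits

namespace Groth.Agent.SpSeq17

variable (E : E₂CohomologicalSpectralSequence (ModuleCat.{u} (Polynomial ℂ)))
variable {N : ℕ} {a c : ℕ → ℝ} {b d : ℕ → ℕ}

theorem pageBdd_all (h : PageBdd (E.page 2 le_rfl).X N a c b d) (r : ℤ) (hr : 2 ≤ r) :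
    PageBdd (E.page r hr).X N a c b d := by
  revert hr
  intro hr
  induction r, hr using Int.leInduction with
  | base => exact h
  | succ r hr ih => exact pageBdd_next E r hr ih

theorem tsum_page (ha : ∀ q, 0 ≤ a q) (hc : ∀ p, 0 ≤ c p) (hsum : Summable fun p : ℕ => c p * (d p : ℝ))
    (h : PageBdd (E.page 2 le_rfl).X N a c b d) (r : ℤ) (hr : 2 ≤ r) :
    ∑' pq : ℕ × ℕ, (-1 : ℂ) ^ (pq.1 + pq.2) * trM ((E.page r hr).X ((pq.1 : ℤ), (pq.2 : ℤ))) =
      ∑' pq : ℕ × ℕ, (-1 : ℂ) ^ (pq.1 + pq.2) * trM ((E.page 2 le_rfl).X ((pq.1 : ℤ), (pq.2 : ℤ))) := by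
  revert hr
  intro hr
  induction r, hr using Int.leInduction with
  | base => rfl
  | succ r hr ih => exact (page_step E r hr ha hc hsum (pageBdd_all E h r hr)).trans ih

theorem isZero_im {M M' : ModuleCat.{u} (Polynomial ℂ)} (g : M ⟶ M') (hg : g = 0) : IsZero (im g) := by
  subst hg
  haveI : Subsingleton (im (0 : M ⟶ M')) :=
    ⟨fun x y => Subtype.ext (by obtain ⟨_, hx⟩ := x.2; obtain ⟨_, hy⟩ := y.2; exact hx.symm.trans hy)⟩
  exact ModuleCat.isZero_of_subsingleton _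

/-- At a stationary position the trace does not change. -/
theorem trM_stat (h : PageBdd (E.page 2 le_rfl).X N a c b d) (pq : ℤ × ℤ) (m : ℤ) (hm : SpSeq.StationaryAt E pq m)
    (r : ℤ) (hr : m ≤ r) : trM ((E.page r (hm.1.trans hr)).X pq) = trM ((E.page m hm.1).X pq) := by
  revert hr
  intro hr
  induction r, hr using Int.leInduction with
  | base => rfl
  | succ r hr ih =>
    obtain ⟨hin, hout⟩ := hm.2 r (hm.1.trans hr) hr
    haveI := (pageBdd_all E h r (hm.1.trans hr)).finite pq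
    have h0 : ∀ x : ℤ × ℤ, x = pq → trM (im ((E.page r (hm.1.trans hr)).d x (pq + (r, 1 - r)))) = 0 := by
      rintro _ rfl; exact trM_of_isZero (isZero_im _ hout)
    rw [← ih, trM_step E r (hm.1.trans hr) pq, trM_of_isZero (isZero_im _ hin), h0 _ (add_sub_cancel_right pq _),
      add_zero, add_zero]

theorem d_eq_zero (h : PageBdd (E.page 2 le_rfl).X N a c b d) (r : ℤ) (hr : 2 ≤ r) (hN : (N : ℤ) + 2 ≤ r)
    (pq : ℤ × ℤ) : (E.page r hr).d pq (pq + (r, 1 - r)) = 0 := by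
  have hP := pageBdd_all E h r hr
  by_cases h0 : pq.1 < 0 ∨ pq.2 < 0
  · exact (hP.zero _ h0).eq_of_src _ _
  simp only [not_or, not_lt] at h0
  by_cases hq : pq.2 ≤ N
  · exact (hP.zero _ (Or.inr (by simp; omega))).eq_of_tgt _ _
  · have := hP.top pq.1.toNat pq.2.toNat (by omega)
    rw [Int.toNat_of_nonneg h0.1, Int.toNat_of_nonneg h0.2] at this
    exact this.eq_of_src _ _

theorem stationary (h : PageBdd (E.page 2 le_rfl).X N a c b d) (pq : ℤ × ℤ) :
    SpSeq.StationaryAt E pq ((N : ℤ) + 2) := by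
  refine ⟨by omega, fun r h₀ hr => ⟨?_, d_eq_zero E h r h₀ hr pq⟩⟩
  have := d_eq_zero E h r h₀ hr (pq - (r, 1 - r))
  rwa [sub_add_cancel] at this

variable {H : ℤ → ModuleCat.{u} (Polynomial ℂ)}

theorem trM_gr (h : PageBdd (E.page 2 le_rfl).X N a c b d) (ab : SpSeq.Abutment E H) (pq : ℤ × ℤ) :
    trM (SpSeq.grPiece (ab.fil (pq.1 + pq.2)) (ab.anti (pq.1 + pq.2)) pq.1) =
      trM ((E.page ((N : ℤ) + 2) (by omega)).X pq) := by
  rw [← trM_iso (ab.β pq), ← trM_stat E h pq _ (ab.stat pq) (max (ab.rk pq) ((N : ℤ) + 2)) (le_max_left _ _),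
    trM_stat E h pq _ (stationary E h pq) (max (ab.rk pq) ((N : ℤ) + 2)) (le_max_right _ _)]

theorem finite_fil_and_trM (h : PageBdd (E.page 2 le_rfl).X N a c b d) (ab : SpSeq.Abutment E H) (n hi : ℤ)
    (hhi : ab.fil n hi = ⊥) (k : ℕ) : Module.Finite ℂ (toVect.obj (ab.fil n (hi - k) : ModuleCat.{u} (Polynomial ℂ))) ∧
      trM (ab.fil n (hi - k) : ModuleCat.{u} (Polynomial ℂ)) =
        ∑ i ∈ Finset.Ico (hi - k) hi, trM ((E.page ((N : ℤ) + 2) (by omega)).X (i, n - i)) := by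
  induction k with
  | zero =>
    have hz : IsZero (ab.fil n (hi - (0 : ℕ)) : ModuleCat.{u} (Polynomial ℂ)) := by
      rw [Nat.cast_zero, sub_zero, hhi]
      exact IsZero.of_iso (isZero_zero _) Subobject.botCoeIsoZero
    exact ⟨(bddM_of_isZero hz 0 0).finite, by rw [trM_of_isZero hz]; simp⟩
  | succ k ih =>
    let p := hi - (k + 1 : ℕ)
    have hp : p + 1 = hi - (k : ℤ) := by simp only [p]; push_cast; ring
    obtain ⟨ihf, iht⟩ := ih
    rw [← hp] at ihf iht
    haveI : Module.Finite ℂ (toVect.obj (ab.fil n (p + 1) : ModuleCat.{u} (Polynomial ℂ))) := ihf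
    let i := (ab.fil n (p + 1)).ofLE (ab.fil n p) (ab.anti n (Int.le_add_one le_rfl))
    let G := SpSeq.grPiece (ab.fil n) (ab.anti n) p
    let π : (ab.fil n p : ModuleCat.{u} (Polynomial ℂ)) ⟶ G := cokernel.π i
    have hpq : ∀ (pq : ℤ × ℤ) (m : ℤ), pq.1 + pq.2 = n → pq.1 = m →
        Module.Finite ℂ (toVect.obj (SpSeq.grPiece (ab.fil n) (ab.anti n) m)) ∧
        trM (SpSeq.grPiece (ab.fil n) (ab.anti n) m) = trM ((E.page ((N : ℤ) + 2) (by omega)).X pq) := by
      rintro pq _ rfl rfl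
      refine ⟨?_, trM_gr E h ab pq⟩
      haveI := (pageBdd_all E h (ab.rk pq) (ab.stat pq).1).finite pq
      exact finite_iso (ab.β pq)
    obtain ⟨hGf, hGt⟩ := hpq (p, n - p) p (by simp) rfl
    haveI : Epi π := inferInstanceAs (Epi (cokernel.π i))
    have hex : Function.Exact i.hom π.hom :=
      LinearMap.exact_iff.2 ((ShortComplex.moduleCat_exact_iff_range_eq_ker _).1
        (ShortComplex.exact_of_g_is_cokernel (ShortComplex.mk i π (cokernel.condition i)) (cokernelIsCokernel i))).symm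
    haveI : Module.Finite ℂ (toVect.obj (ab.fil n p : ModuleCat.{u} (Polynomial ℂ))) := finite_ses i π hex
    refine ⟨‹_›, ?_⟩
    rw [trM_ses i π ((ModuleCat.mono_iff_injective i).1 inferInstance) ((ModuleCat.epi_iff_surjective π).1 inferInstance)
      hex, hGt, iht, ← Finset.Ioo_insert_left (show p < hi by simp only [p]; omega), Finset.sum_insert (by simp),
      show Finset.Ioo p hi = Finset.Ico (p + 1) hi from by ext; simp]
    ring

theorem trM_abutment (h : PageBdd (E.page 2 le_rfl).X N a c b d) (ab : SpSeq.Abutment E H) (hfin : ∀ n, ab.IsFinite n)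
    (n : ℕ) : trM (H n) = ∑ kl ∈ Finset.HasAntidiagonal.antidiagonal n,
      trM ((E.page ((N : ℤ) + 2) (by omega)).X ((kl.1 : ℤ), (kl.2 : ℤ))) := by
  obtain ⟨⟨lo, hlo⟩, ⟨hi, hhi⟩⟩ := hfin (n : ℤ)
  change ab.fil n lo = ⊤ at hlo
  change ab.fil n hi = ⊥ at hhi
  let lo' := min lo 0
  let hi' := max hi ((n : ℤ) + 1)
  have hlo' : ab.fil n lo' = ⊤ := top_le_iff.1 (hlo ▸ ab.anti n (min_le_left lo 0))
  have hhi' : ab.fil n hi' = ⊥ := le_bot_iff.1 (hhi ▸ ab.anti n (le_max_left hi _))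
  obtain ⟨-, ht⟩ := finite_fil_and_trM E h ab n hi' hhi' (hi' - lo').toNat
  rw [Int.toNat_of_nonneg (by omega), sub_sub_cancel, hlo'] at ht
  rw [← trM_iso (asIso (⊤ : Subobject (H n)).arrow), ht]
  refine (Finset.sum_of_injOn (fun kl : ℕ × ℕ => (kl.1 : ℤ)) ?_ ?_ ?_ ?_).symm
  · intro x hx y hy hxy
    simp only [Finset.mem_coe, Finset.HasAntidiagonal.mem_antidiagonal] at hx hy
    simp only [Nat.cast_inj] at hxy
    exact Prod.ext hxy (by omega)
  · intro x hx
    simp only [Finset.mem_coe, Finset.HasAntidiagonal.mem_antidiagonal] at hx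
    simp only [Finset.coe_Ico, Set.mem_Ico]
    omega
  · intro i _ hi
    refine trM_of_isZero ((pageBdd_all E h _ _).zero _ ?_)
    by_contra hc
    simp only [not_or, not_lt] at hc
    exact hi ⟨(i.toNat, ((n : ℤ) - i).toNat), by simp only [Finset.mem_coe, Finset.HasAntidiagonal.mem_antidiagonal]; omega, by simp [hc.1]⟩
  · intro kl hkl
    simp only [Finset.HasAntidiagonal.mem_antidiagonal] at hkl
    rw [show (n : ℤ) - (kl.1 : ℤ) = kl.2 by omega]

theorem abutment_tsum (ha : ∀ q, 0 ≤ a q) (hc : ∀ p, 0 ≤ c p) (hsum : Summable fun p : ℕ => c p * (d p : ℝ))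
    (h : PageBdd (E.page 2 le_rfl).X N a c b d) (ab : SpSeq.Abutment E H) (hfin : ∀ n, ab.IsFinite n) :
    Summable (fun n : ℕ => ‖trM (H n)‖) ∧
      ∑' n : ℕ, (-1 : ℂ) ^ n * trM (H n) =
        ∑' pq : ℕ × ℕ, (-1 : ℂ) ^ (pq.1 + pq.2) * trM ((E.page 2 le_rfl).X ((pq.1 : ℤ), (pq.2 : ℤ))) := by
  have hR := pageBdd_all E h ((N : ℤ) + 2) (by omega)
  let T : ℕ × ℕ → ℂ := fun pq => trM ((E.page ((N : ℤ) + 2) (by omega)).X ((pq.1 : ℤ), (pq.2 : ℤ)))
  have hT : Summable fun pq => ‖T pq‖ :=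
    summable_of_bound N a c b d hsum T (fun p q hq => by simp only [T]; rw [trM_of_isZero (hR.top p q hq), norm_zero])
      fun p q => (hR.bdd p q).norm_trace_le (mul_nonneg (ha q) (hc p))
  have hs : Summable fun pq : ℕ × ℕ => (-1 : ℂ) ^ (pq.1 + pq.2) * T pq :=
    Summable.of_norm (hT.congr fun pq => by simp)
  let e := Finset.HasAntidiagonal.sigmaAntidiagonalEquivProd (A := ℕ)
  have hσ : ∀ {G : Type} [NormedAddCommGroup G] [CompleteSpace G] (f : ℕ × ℕ → G), Summable f →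
      HasSum (fun n => ∑ kl ∈ Finset.HasAntidiagonal.antidiagonal n, f kl) (∑' pq, f pq) := fun {G} _ _ f hf =>
    (e.hasSum_iff.2 hf.hasSum).sigma fun n => by
      rw [← Finset.sum_coe_sort (Finset.HasAntidiagonal.antidiagonal n) f]
      exact hasSum_fintype fun x : Finset.HasAntidiagonal.antidiagonal n => f x.1
  refine ⟨Summable.of_nonneg_of_le (fun _ => norm_nonneg _) (fun n => ?_) (hσ _ hT).summable, ?_⟩
  · rw [trM_abutment E h ab hfin n]
    exact norm_sum_le _ _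
  · rw [← tsum_page E ha hc hsum h ((N : ℤ) + 2) (by omega)]
    refine (tsum_congr fun n => ?_).trans (hσ _ hs).tsum_eq
    rw [trM_abutment E h ab hfin n, Finset.mul_sum]
    refine Finset.sum_congr rfl fun kl hkl => ?_
    simp only [Finset.HasAntidiagonal.mem_antidiagonal] at hkl
    rw [hkl]

end Groth.Agent.SpSeq17
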