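import Groth.Agent.SpSeq17.TraceBound
import Groth.Agent.CAlgSmall.EulerTrace

/-!
# Traces of multiplication by `X` on `ℂ[X]`-modules
-/

set_option autoImplicit false
set_option backward.isDefEq.respectTransparency false
set_option linter.style.haveILetI false

universe u

open CategoryTheory CategoryTheory.Limits

namespace Groth.Agent.SpSeq17

variable {M N A B C : ModuleCat.{u} (Polynomial ℂ)}

/-- The underlying complex vector space functor. -/
noncomputable abbrev toVect : ModuleCat.{u} (Polynomial ℂ) ⥤ ModuleCat.{u} ℂ :=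
  ModuleCat.restrictScalars (algebraMap ℂ (Polynomial ℂ))

/-- Multiplication by `X` on the underlying vector space. -/
noncomputable abbrev phi (M : ModuleCat.{u} (Polynomial ℂ)) : Module.End ℂ (toVect.obj M) :=
  (toVect.map ((Polynomial.X : Polynomial ℂ) • 𝟙 M)).hom

/-- Its trace. -/
noncomputable abbrev trM (M : ModuleCat.{u} (Polynomial ℂ)) : ℂ := LinearMap.trace ℂ (toVect.obj M) (phi M)

/-- Bounded eigenvalues and dimension. -/
abbrev BddM (M : ModuleCat.{u} (Polynomial ℂ)) (A : ℝ) (D : ℕ) : Prop := Bdd (phi M) A D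

theorem phi_comm (g : M ⟶ N) : phi N ∘ₗ (toVect.map g).hom = (toVect.map g).hom ∘ₗ phi M := by
  ext x
  exact (g.hom.map_smul _ _).symm

theorem BddM.of_injective {R : ℝ} {D : ℕ} (h : BddM N R D) (g : M ⟶ N) (hg : Function.Injective g.hom) :
    BddM M R D :=
  Bdd.of_injective h (toVect.map g).hom hg (phi_comm g)

theorem BddM.of_surjective {R : ℝ} {D : ℕ} (h : BddM M R D) (g : M ⟶ N) (hg : Function.Surjective g.hom) :
    BddM N R D :=
  Bdd.of_surjective h (toVect.map g).hom hg (phi_comm g).symm

theorem bddM_of_isZero (h : IsZero M) (R : ℝ) (D : ℕ) : BddM M R D := by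
  haveI : Subsingleton M := ModuleCat.subsingleton_of_isZero h
  haveI : Subsingleton (toVect.obj M) := ‹Subsingleton M›
  refine ⟨inferInstance, fun μ hμ => ?_, by simp [Module.finrank_zero_of_subsingleton]⟩
  obtain ⟨x, hx⟩ := hμ.exists_hasEigenvector
  exact absurd (Subsingleton.elim x 0) hx.2

theorem trM_of_isZero (h : IsZero M) : trM M = 0 := by
  haveI : Subsingleton M := ModuleCat.subsingleton_of_isZero h
  haveI : Subsingleton (toVect.obj M) := ‹Subsingleton M›
  rw [trM, show phi M = 0 from LinearMap.ext fun x => Subsingleton.elim _ _, map_zero]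

theorem finite_iso (e : M ≅ N) [Module.Finite ℂ (toVect.obj M)] : Module.Finite ℂ (toVect.obj N) :=
  Module.Finite.equiv (toVect.mapIso e).toLinearEquiv

theorem trM_iso (e : M ≅ N) : trM M = trM N := by
  have h : phi N = (toVect.mapIso e).toLinearEquiv.conj (phi M) := by
    ext x
    show phi N x = (toVect.map e.hom).hom (phi M ((toVect.map e.inv).hom x))
    rw [show (toVect.map e.hom).hom (phi M ((toVect.map e.inv).hom x)) =
      phi N ((toVect.map e.hom).hom ((toVect.map e.inv).hom x)) from (LinearMap.congr_fun (phi_comm e.hom) _).symm]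
    congr 1
    exact (LinearMap.congr_fun (congrArg ModuleCat.Hom.hom e.inv_hom_id) x).symm
  rw [trM, trM, h, LinearMap.trace_conj']

/-- Additivity of the trace on a short exact sequence with finite middle term. -/
theorem trM_ses [Module.Finite ℂ (toVect.obj B)] (i : A ⟶ B) (p : B ⟶ C) (hi : Function.Injective i.hom)
    (hp : Function.Surjective p.hom) (hex : Function.Exact i.hom p.hom) : trM B = trM A + trM C := by
  haveI : Module.Finite ℂ (toVect.obj A) := Module.Finite.of_injective (toVect.map i).hom hi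
  haveI : Module.Finite ℂ (toVect.obj C) := Module.Finite.of_surjective (toVect.map p).hom hp
  exact Groth.Agent.CAlgSmall.EulerTrace.trace_ses (toVect.map i).hom (toVect.map p).hom hi hp hex
    (phi A) (phi B) (phi C) (phi_comm i) (phi_comm p).symm

theorem finite_ses [Module.Finite ℂ (toVect.obj A)] [Module.Finite ℂ (toVect.obj C)] (i : A ⟶ B) (p : B ⟶ C)
    (hex : Function.Exact i.hom p.hom) : Module.Finite ℂ (toVect.obj B) := by
  let i' := (toVect.map i).hom
  let p' := (toVect.map p).hom
  have hex' : Function.Exact i' p' := hex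
  rw [Module.finite_def]
  refine Submodule.fg_of_fg_map_of_fg_inf_ker p' ?_ ?_
  · exact (isNoetherian_def.1 inferInstance) _
  · rw [top_inf_eq, LinearMap.exact_iff.1 hex', LinearMap.range_eq_map]
    exact Module.Finite.fg_top.map _

/-- The image of a map as a module. -/
noncomputable abbrev im (g : M ⟶ N) : ModuleCat.{u} (Polynomial ℂ) :=
  ModuleCat.of (Polynomial ℂ) (LinearMap.range g.hom)

theorem bddM_im {R : ℝ} {D : ℕ} (h : BddM N R D) (g : M ⟶ N) : BddM (im g) R D :=
  h.of_injective (ModuleCat.ofHom (LinearMap.range g.hom).subtype) (Submodule.injective_subtype _)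

/-- Homology is a subquotient. -/
theorem bddM_homology {R : ℝ} {D : ℕ} (S : ShortComplex (ModuleCat.{u} (Polynomial ℂ))) (h : BddM S.X₂ R D) :
    BddM S.homology R D := by
  have hK : BddM (ModuleCat.of (Polynomial ℂ) (LinearMap.ker S.g.hom)) R D :=
    h.of_injective (ModuleCat.ofHom (LinearMap.ker S.g.hom).subtype) (Submodule.injective_subtype _)
  refine hK.of_surjective (ModuleCat.ofHom (LinearMap.range S.moduleCatToCycles).mkQ ≫ S.moduleCatHomologyIso.inv) ?_
  exact ((CategoryTheory.ConcreteCategory.bijective_of_isIso S.moduleCatHomologyIso.inv).2).comp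
    (Submodule.mkQ_surjective _)

theorem trM_homology (S : ShortComplex (ModuleCat.{u} (Polynomial ℂ))) [Module.Finite ℂ (toVect.obj S.X₂)] :
    trM S.X₂ = trM S.homology + trM (im S.f) + trM (im S.g) := by
  let K := ModuleCat.of (Polynomial ℂ) (LinearMap.ker S.g.hom)
  let ι : K ⟶ S.X₂ := ModuleCat.ofHom (LinearMap.ker S.g.hom).subtype
  haveI : Module.Finite ℂ (toVect.obj K) :=
    Module.Finite.of_injective (toVect.map ι).hom (Submodule.injective_subtype _)
  let e : im S.f ⟶ K := ModuleCat.ofHom ((LinearMap.range S.f.hom).subtype.codRestrict (LinearMap.ker S.g.hom)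
    (by rintro ⟨_, x, rfl⟩; exact LinearMap.congr_fun (congrArg ModuleCat.Hom.hom S.zero) x))
  let p : K ⟶ S.homology := ModuleCat.ofHom (LinearMap.range S.moduleCatToCycles).mkQ ≫ S.moduleCatHomologyIso.inv
  have hb := CategoryTheory.ConcreteCategory.bijective_of_isIso S.moduleCatHomologyIso.inv
  have h1 : trM S.X₂ = trM K + trM (im S.g) :=
    trM_ses ι (ModuleCat.ofHom S.g.hom.rangeRestrict) (Submodule.injective_subtype _)
      S.g.hom.surjective_rangeRestrict (fun x => by
        constructor
        · intro hx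
          exact ⟨⟨x, congrArg Subtype.val hx⟩, rfl⟩
        · rintro ⟨⟨y, hy⟩, rfl⟩
          exact Subtype.ext hy)
  have h2 : trM K = trM (im S.f) + trM S.homology := by
    refine trM_ses e p (fun x y hxy => Subtype.ext (congrArg Subtype.val hxy :))
      (hb.2.comp (Submodule.mkQ_surjective _)) (fun x => ?_)
    show S.moduleCatHomologyIso.inv ((LinearMap.range S.moduleCatToCycles).mkQ x) = 0 ↔ x ∈ Set.range e.hom
    rw [map_eq_zero_iff S.moduleCatHomologyIso.inv.hom hb.1, Submodule.mkQ_apply, Submodule.Quotient.mk_eq_zero]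
    constructor
    · rintro ⟨y, rfl⟩
      exact ⟨⟨S.f y, y, rfl⟩, rfl⟩
    · rintro ⟨⟨_, y, rfl⟩, rfl⟩
      exact ⟨y, Subtype.ext rfl⟩
  rw [h1, h2]
  ring

end Groth.Agent.SpSeq17
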