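import Groth.Prelude.Def_SpSeq
import Groth.Agent.SpSeq17.ModuleTrace

/-!
# Alternating traces on the pages of a bounded spectral sequence
-/

set_option autoImplicit false
set_option backward.isDefEq.respectTransparency false
set_option linter.style.haveILetI false

universe u

open CategoryTheory CategoryTheory.Limits

namespace Groth.Agent.SpSeq17

variable (E : E₂CohomologicalSpectralSequence (ModuleCat.{u} (Polynomial ℂ)))

/-- The boundedness condition on a page. -/
structure PageBdd (M : ℤ × ℤ → ModuleCat.{u} (Polynomial ℂ)) (N : ℕ) (a c : ℕ → ℝ) (b d : ℕ → ℕ) : Prop where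
  zero : ∀ pq : ℤ × ℤ, pq.1 < 0 ∨ pq.2 < 0 → IsZero (M pq)
  finite : ∀ pq : ℤ × ℤ, Module.Finite ℂ (toVect.obj (M pq))
  top : ∀ p q : ℕ, N < q → IsZero (M ((p : ℤ), (q : ℤ)))
  bdd : ∀ p q : ℕ, BddM (M ((p : ℤ), (q : ℤ))) (a q * c p) (b q * d p)

/-- The short complex at a position of a page. -/
noncomputable abbrev pageSc (r : ℤ) (hr : 2 ≤ r) (pq : ℤ × ℤ) :=
  (E.page r hr).sc' (pq - (r, 1 - r)) pq (pq + (r, 1 - r))

/-- The next page is the homology. -/
noncomputable def nextIso (r : ℤ) (hr : 2 ≤ r) (pq : ℤ × ℤ) :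
    (pageSc E r hr pq).homology ≅ (E.page (r + 1) (Int.le_add_one hr)).X pq :=
  (ShortComplex.homologyMapIso ((E.page r hr).isoSc' _ _ _ ((ComplexShape.up' _).prev_eq' (by simp))
    ((ComplexShape.up' _).next_eq' (by simp)))).symm ≪≫ E.iso r (r + 1) pq rfl hr

theorem isZero_next (r : ℤ) (hr : 2 ≤ r) (pq : ℤ × ℤ) (h : IsZero ((E.page r hr).X pq)) :
    IsZero ((E.page (r + 1) (Int.le_add_one hr)).X pq) :=
  IsZero.of_iso ((pageSc E r hr pq).exact_iff_isZero_homology.1 (ShortComplex.exact_of_isZero_X₂ _ h))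
    (nextIso E r hr pq).symm

variable {N : ℕ} {a c : ℕ → ℝ} {b d : ℕ → ℕ}

theorem pageBdd_next (r : ℤ) (hr : 2 ≤ r) (h : PageBdd (E.page r hr).X N a c b d) :
    PageBdd (E.page (r + 1) (Int.le_add_one hr)).X N a c b d where
  zero pq hpq := isZero_next E r hr pq (h.zero pq hpq)
  top p q hq := isZero_next E r hr _ (h.top p q hq)
  finite pq := by
    haveI : Module.Finite ℂ (toVect.obj (pageSc E r hr pq).X₂) := h.finite pq
    let ι : ModuleCat.of (Polynomial ℂ) (LinearMap.ker (pageSc E r hr pq).g.hom) ⟶ (pageSc E r hr pq).X₂ :=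
      ModuleCat.ofHom (LinearMap.ker (pageSc E r hr pq).g.hom).subtype
    haveI := Module.Finite.of_injective (toVect.map ι).hom (Submodule.injective_subtype _)
    let p : ModuleCat.of (Polynomial ℂ) (LinearMap.ker (pageSc E r hr pq).g.hom) ⟶ (pageSc E r hr pq).homology :=
      ModuleCat.ofHom (LinearMap.range (pageSc E r hr pq).moduleCatToCycles).mkQ ≫
        (pageSc E r hr pq).moduleCatHomologyIso.inv
    haveI : Module.Finite ℂ (toVect.obj (pageSc E r hr pq).homology) :=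
      Module.Finite.of_surjective (toVect.map p).hom
        ((ConcreteCategory.bijective_of_isIso (pageSc E r hr pq).moduleCatHomologyIso.inv).2.comp
          (Submodule.mkQ_surjective _))
    exact finite_iso (nextIso E r hr pq)
  bdd p q := (bddM_homology _ (h.bdd p q)).of_surjective (nextIso E r hr _).hom
    (ConcreteCategory.bijective_of_isIso (nextIso E r hr _).hom).2

/-- The image of the differential arriving at a position. -/
noncomputable abbrev inIm (r : ℤ) (hr : 2 ≤ r) (pq : ℤ × ℤ) : ModuleCat.{u} (Polynomial ℂ) :=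
  im ((E.page r hr).d (pq - (r, 1 - r)) pq)

theorem trM_step (r : ℤ) (hr : 2 ≤ r) (pq : ℤ × ℤ) [Module.Finite ℂ (toVect.obj ((E.page r hr).X pq))] :
    trM ((E.page r hr).X pq) = trM ((E.page (r + 1) (Int.le_add_one hr)).X pq) +
      trM (inIm E r hr pq) + trM (inIm E r hr (pq + (r, 1 - r))) := by
  haveI : Module.Finite ℂ (toVect.obj (pageSc E r hr pq).X₂) := ‹_›
  have h := trM_homology (pageSc E r hr pq)
  rw [trM_iso (nextIso E r hr pq)] at h
  have h' : ∀ x : ℤ × ℤ, x = pq → trM (inIm E r hr (pq + (r, 1 - r))) =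
      trM (im ((E.page r hr).d x (pq + (r, 1 - r)))) → trM (inIm E r hr (pq + (r, 1 - r))) =
        trM (im (pageSc E r hr pq).g) := by
    rintro _ rfl h''; exact h''
  rw [h' _ (add_sub_cancel_right pq _) rfl]
  exact h

/-- Sign of a position. -/
noncomputable abbrev sgn (pq : ℤ × ℤ) : ℂ := (-1 : ℂ) ^ (pq.1 + pq.2)

theorem norm_sgn (pq : ℤ × ℤ) : ‖sgn pq‖ = 1 := by simp [sgn]

/-- The inclusion of the first quadrant. -/
def quad : ℕ × ℕ → ℤ × ℤ := fun pq => ((pq.1 : ℤ), (pq.2 : ℤ))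

theorem quad_injective : Function.Injective quad := fun x y h => by
  simpa [quad, Prod.ext_iff] using h

theorem sgn_quad (pq : ℕ × ℕ) : sgn (quad pq) = (-1 : ℂ) ^ (pq.1 + pq.2) := by
  simp only [sgn, quad, ← Nat.cast_add, zpow_natCast]

theorem notMem_range_quad {pq : ℤ × ℤ} (h : pq ∉ Set.range quad) : pq.1 < 0 ∨ pq.2 < 0 := by
  by_contra hc
  simp only [not_or, not_lt] at hc
  exact h ⟨(pq.1.toNat, pq.2.toNat), by simp [quad, hc.1, hc.2]⟩

variable {M : ℤ × ℤ → ModuleCat.{u} (Polynomial ℂ)}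

/-- Summability of a family dominated by a bounded page. -/
theorem summable_dominated (ha : ∀ q, 0 ≤ a q) (hc : ∀ p, 0 ≤ c p) (hsum : Summable fun p : ℕ => c p * (d p : ℝ))
    (h : PageBdd M N a c b d) (M' : ℤ × ℤ → ModuleCat.{u} (Polynomial ℂ))
    (h0 : ∀ pq, IsZero (M pq) → IsZero (M' pq))
    (hle : ∀ pq R D, BddM (M pq) R D → BddM (M' pq) R D) :
    Summable (fun pq : ℤ × ℤ => sgn pq * trM (M' pq)) := by
  refine (quad_injective.summable_iff fun pq hpq => ?_).1 ?_
  · rw [trM_of_isZero (h0 _ (h.zero _ (notMem_range_quad hpq))), mul_zero]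
  · refine Summable.of_norm ?_
    refine summable_of_bound N a c b d hsum _ (fun p q hq => ?_) (fun p q => ?_)
    · simp only [Function.comp_apply, norm_mul]
      rw [trM_of_isZero (h0 _ (by exact h.top p q hq)), norm_zero, mul_zero]
    · simp only [Function.comp_apply, norm_mul, norm_sgn, one_mul]
      exact (hle _ _ _ (h.bdd p q)).norm_trace_le (mul_nonneg (ha q) (hc p))

theorem tsum_quad (h : PageBdd M N a c b d) :
    ∑' pq : ℕ × ℕ, (-1 : ℂ) ^ (pq.1 + pq.2) * trM (M ((pq.1 : ℤ), (pq.2 : ℤ))) = ∑' pq : ℤ × ℤ, sgn pq * trM (M pq) := by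
  rw [← quad_injective.tsum_eq (f := fun pq : ℤ × ℤ => sgn pq * trM (M pq)) ?_]
  · exact tsum_congr fun pq => by rw [sgn_quad]; rfl
  · intro pq hpq
    by_contra hc
    exact hpq (by show sgn pq * trM (M pq) = 0; rw [trM_of_isZero (h.zero _ (notMem_range_quad hc)), mul_zero])

theorem hasSum_shift {f : ℤ × ℤ → ℂ} (hf : Summable f) (δ : ℤ × ℤ) :
    HasSum (fun pq => f (pq + δ)) (∑' pq, f pq) :=
  (Equiv.addRight δ).hasSum_iff.2 hf.hasSum

theorem page_step (r : ℤ) (hr : 2 ≤ r) (ha : ∀ q, 0 ≤ a q) (hc : ∀ p, 0 ≤ c p)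
    (hsum : Summable fun p : ℕ => c p * (d p : ℝ)) (h : PageBdd (E.page r hr).X N a c b d) :
    ∑' pq : ℕ × ℕ, (-1 : ℂ) ^ (pq.1 + pq.2) * trM ((E.page (r + 1) (Int.le_add_one hr)).X ((pq.1 : ℤ), (pq.2 : ℤ))) =
      ∑' pq : ℕ × ℕ, (-1 : ℂ) ^ (pq.1 + pq.2) * trM ((E.page r hr).X ((pq.1 : ℤ), (pq.2 : ℤ))) := by
  have h' := pageBdd_next E r hr h
  rw [tsum_quad h', tsum_quad h]
  let δ : ℤ × ℤ := (r, 1 - r)
  let β : ℤ × ℤ → ℂ := fun pq => sgn pq * trM (inIm E r hr pq)
  have sT' := summable_dominated ha hc hsum h' _ (fun _ => id) fun _ _ _ => id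
  have sβ : Summable β := summable_dominated ha hc hsum h (inIm E r hr) (fun pq hz => by
      haveI := ModuleCat.subsingleton_of_isZero hz
      exact ModuleCat.isZero_of_subsingleton _) fun pq R D hB => bddM_im hB _
  have hβ := hasSum_shift sβ δ
  have key : ∀ pq, sgn pq * trM ((E.page r hr).X pq) =
      sgn pq * trM ((E.page (r + 1) (Int.le_add_one hr)).X pq) + (β pq - β (pq + δ)) := fun pq => by
    haveI := h.finite pq
    have hs : sgn (pq + δ) = - sgn pq := by
      have : (pq + δ).1 + (pq + δ).2 = (pq.1 + pq.2) + 1 := by simp [δ]; ring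
      rw [sgn, sgn, this, zpow_add_one₀ (by norm_num)]
      ring
    simp only [β, hs, trM_step E r hr pq]
    ring
  rw [tsum_congr key, sT'.tsum_add (sβ.sub hβ.summable), sβ.tsum_sub hβ.summable, hβ.tsum_eq, sub_self, add_zero]

end Groth.Agent.SpSeq17
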