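import Groth.Prelude.Def_W4c1gvcharpAbut

/-!
# Vanishing of maps on abutments
-/

set_option autoImplicit false
set_option backward.isDefEq.respectTransparency false

universe v u

open CategoryTheory CategoryTheory.Limits

namespace Groth.Agent.SpSeq17

variable {C : Type u} [Category.{v} C] [Abelian C]

theorem isZero_page {r₀ : ℤ} (E : CohomologicalSpectralSequence C r₀) (pq : ℤ × ℤ)
    (h : IsZero ((E.page r₀ le_rfl).X pq)) (r : ℤ) (hr : r₀ ≤ r) : IsZero ((E.page r hr).X pq) := by
  revert hr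
  intro hr
  induction r, hr using Int.le_induction with
  | base => exact h
  | succ r hr ih =>
    exact IsZero.of_iso ((HomologicalComplex.exactAt_iff_isZero_homology _ _).1
      ((HomologicalComplex.exactAt_iff _ _).2 (ShortComplex.exact_of_isZero_X₂ _ ih))) (E.iso r (r + 1) pq rfl hr).symm

theorem hom_f_eq_zero {r₀ : ℤ} {E E' : CohomologicalSpectralSequence C r₀} (φ : E ⟶ E') (pq : ℤ × ℤ)
    (h : (φ.hom r₀ le_rfl).f pq = 0) (r : ℤ) (hr : r₀ ≤ r) : (φ.hom r hr).f pq = 0 := by
  revert hr
  intro hr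
  induction r, hr using Int.le_induction with
  | base => exact h
  | succ r hr ih =>
    have hc : HomologicalComplex.cyclesMap (φ.hom r hr) pq = 0 := by
      rw [← cancel_mono ((E'.page r hr).iCycles pq), zero_comp, HomologicalComplex.cyclesMap_i, ih, comp_zero]
    have hm : HomologicalComplex.homologyMap (φ.hom r hr) pq = 0 := by
      rw [← cancel_epi ((E.page r hr).homologyπ pq), comp_zero, HomologicalComplex.homologyπ_naturality, hc, zero_comp]
    have := φ.comm r (r + 1) pq rfl hr
    rw [hm, zero_comp] at this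
    rw [← cancel_epi (E.iso r (r + 1) pq rfl hr).hom, comp_zero]
    exact this.symm

/-- A filtration step with zero graded piece. -/
theorem fil_eq_of_isZero {X : C} {F : ℤ → Subobject X} (hF : Antitone F) (p : ℤ)
    (h : IsZero (SpSeq.grPiece F hF p)) : F p = F (p + 1) := by
  refine le_antisymm ?_ (hF (Int.le_add_one le_rfl))
  haveI : Epi ((F (p + 1)).ofLE (F p) (hF (Int.le_add_one le_rfl))) := Abelian.epi_of_cokernel_π_eq_zero _ (h.eq_of_tgt _ _)
  haveI := isIso_of_mono_of_epi ((F (p + 1)).ofLE (F p) (hF (Int.le_add_one le_rfl)))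
  exact Subobject.le_of_comm (inv ((F (p + 1)).ofLE (F p) (hF (Int.le_add_one le_rfl))))
    (by rw [IsIso.inv_comp_eq, Subobject.ofLE_arrow])

theorem hom_eq_zero {E E' : E₂CohomologicalSpectralSequence C} (φ : E ⟶ E') {H H' : ℤ → C}
    (a : SpSeq.Abutment E H) (a' : SpSeq.Abutment E' H') (ha : ∀ n : ℤ, a.IsFinite n) (ha' : ∀ n : ℤ, a'.IsFinite n)
    (f : SpSeqMor.AbutHom φ a a') (a₀ j : ℤ)
    (hE : ∀ i : ℤ, i < a₀ → IsZero ((E.page 2 le_rfl).X (i, a₀ + j - i)))
    (hE' : ∀ i : ℤ, a₀ < i → IsZero ((E'.page 2 le_rfl).X (i, a₀ + j - i)))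
    (hφ : (φ.hom 2 le_rfl).f (a₀, j) = 0) : f.hom (a₀ + j) = 0 := by
  let m := a₀ + j
  have hgr : ∀ i, i < a₀ → IsZero (SpSeq.grPiece (a.fil m) (a.anti m) i) := fun i hi => by
    have e := a.β (i, m - i)
    have hz : IsZero (SpSeq.grPiece (a.fil (i + (m - i))) (a.anti (i + (m - i))) i) :=
      (isZero_page E (i, m - i) (hE i hi) _ (a.stat (i, m - i)).1).of_iso e.symm
    have key : ∀ x, x = m → IsZero (SpSeq.grPiece (a.fil x) (a.anti x) i) →
        IsZero (SpSeq.grPiece (a.fil m) (a.anti m) i) := fun x hx => by subst hx; exact id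
    exact key (i + (m - i)) (by omega) hz
  have hgr' : ∀ i, a₀ < i → IsZero (SpSeq.grPiece (a'.fil m) (a'.anti m) i) := fun i hi => by
    have e := a'.β (i, m - i)
    have hz : IsZero (SpSeq.grPiece (a'.fil (i + (m - i))) (a'.anti (i + (m - i))) i) :=
      (isZero_page E' (i, m - i) (hE' i hi) _ (a'.stat (i, m - i)).1).of_iso e.symm
    have key : ∀ x, x = m → IsZero (SpSeq.grPiece (a'.fil x) (a'.anti x) i) →
        IsZero (SpSeq.grPiece (a'.fil m) (a'.anti m) i) := fun x hx => by subst hx; exact id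
    exact key (i + (m - i)) (by omega) hz
  have htop : a.fil m a₀ = ⊤ := by
    obtain ⟨⟨p, hp⟩, -⟩ := ha m
    rcases le_total a₀ p with h | h
    · exact top_le_iff.1 (hp.symm.le.trans (a.anti m h))
    · have : ∀ q, p ≤ q → q ≤ a₀ → a.fil m q = ⊤ := fun q hq => by
        induction q, hq using Int.le_induction with
        | base => exact fun _ => hp
        | succ q hq ih =>
          intro hq'
          rw [← fil_eq_of_isZero (a.anti m) q (hgr q (by omega))]
          exact ih (by omega)
      exact this a₀ h le_rfl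
  have hbot : a'.fil m (a₀ + 1) = ⊥ := by
    obtain ⟨-, p, hp⟩ := ha' m
    rcases le_total p (a₀ + 1) with h | h
    · exact le_bot_iff.1 ((a'.anti m h).trans hp.le)
    · have : ∀ q, q ≤ p → a₀ + 1 ≤ q → a'.fil m q = ⊥ := fun q hq => by
        induction q, hq using Int.le_induction_down with
        | base => exact fun _ => hp
        | pred q hq ih =>
          intro hq'
          rw [fil_eq_of_isZero (a'.anti m) (q - 1) (hgr' (q - 1) (by omega)), show q - 1 + 1 = q by omega]
          exact ih (by omega)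
      exact this (a₀ + 1) h le_rfl
  let pq : ℤ × ℤ := (a₀, j)
  have hg : (f.fil m).gr a₀ = 0 := by
    have h2 := (a.stat pq).1
    have h2' := (a'.stat pq).1
    obtain ⟨k, k', hkk⟩ : ∃ k k' : ℕ, a.rk pq + k = a'.rk pq + k' :=
      ⟨(a'.rk pq - a.rk pq).toNat, (a.rk pq - a'.rk pq).toNat, by omega⟩
    have h := f.comm pq k k' hkk
    rw [hom_f_eq_zero φ pq hφ] at h
    simp only [zero_comp, comp_zero] at h
    exact (cancel_epi (a.β pq).hom).1 (h.trans comp_zero.symm)
  have hl : (f.fil m).lift a₀ = 0 := by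
    haveI : IsIso ((a'.filObj m).fil a₀ |>.arrow) ∨ True := Or.inr trivial
    have hπ : (f.fil m).lift a₀ ≫ cokernel.π ((a'.filObj m).stepLE (Int.le_add_one (le_refl a₀))) = 0 := by
      have h' : cokernel.π ((a.filObj m).stepLE (Int.le_add_one (le_refl a₀))) ≫ (f.fil m).gr a₀ =
          (f.fil m).lift a₀ ≫ cokernel.π ((a'.filObj m).stepLE (Int.le_add_one (le_refl a₀))) :=
        cokernel.π_desc _ _ _
      rw [← h', hg, comp_zero]
    have hz : (a'.filObj m).stepLE (Int.le_add_one (le_refl a₀)) = 0 := by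
      rw [← cancel_mono ((a'.filObj m).fil a₀).arrow, zero_comp, SpSeq.FilObj.stepLE, Subobject.ofLE_arrow]
      have key : ∀ S : Subobject (H' m), S = ⊥ → S.arrow = 0 := fun S hS => by subst hS; exact Subobject.bot_arrow
      exact key _ hbot
    haveI : IsIso (cokernel.π ((a'.filObj m).stepLE (Int.le_add_one (le_refl a₀)))) := by
      rw [hz]
      infer_instance
    exact (cancel_mono (cokernel.π ((a'.filObj m).stepLE (Int.le_add_one (le_refl a₀))))).1 (hπ.trans zero_comp.symm)
  haveI : IsIso ((a.filObj m).fil a₀).arrow := (Subobject.isIso_arrow_iff_eq_top _).2 htop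
  show (f.fil m).hom = 0
  rw [← cancel_epi ((a.filObj m).fil a₀).arrow, comp_zero, ← (f.fil m).lift_arrow, hl, zero_comp]

end Groth.Agent.SpSeq17
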